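import Cfsg.Agent.H462.NoProd.Psp
import Cfsg.Agent.H899.Cyc.Fac
import Cfsg.Agent.H947.Cyc.Sz
import Cfsg.Agent.H947.Cyc.Ree
import Cfsg.Agent.OrdDiv.Main

/-!
# No factorizations `T = A B`, `A ≅ S^l`, in the groups of small rank (FAC-LOW of S3679) (helper462)

`noFac_low` : `PSL_n(q)`, `PSU_n(q)`, `n ≤ 3`, `Sz(q)`, `²G₂(q)`, `PSp₄(q)` with `q` odd.
-/

set_option autoImplicit false

namespace Cfsg.Agent.H462.NoProd

open Cfsg.Agent.H899.CG Cfsg.Agent.OrdDiv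

set_option linter.dupNamespace false in
theorem NoProd.noFac {T : Type} [Group T] (h : NoProd T) : NoFac T := fun S _ _ hS hna _ _ _ _ hF => by
  obtain ⟨φ, hφ, -⟩ := hF.exists_hom
  exact h S hS hna φ hφ

theorem noFac_psl {F : Type} [Field F] {n : ℕ} (hn : n ≤ 3) {T : Type} [Group T]
    (e : T ≃* Matrix.ProjectiveSpecialLinearGroup (Fin n) F) : NoFac T :=
  ((noProd_psl hn).congr e).noFac

theorem noFac_psu {F : Type} [Field F] {n q : ℕ} (hn : n ≤ 3) {T : Type} [Group T] (e : T ≃* PSU n F q) : NoFac T :=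
  ((noProd_psu hn).congr e).noFac

theorem noFac_psp {F : Type} [Field F] [Fintype F] (ho : Odd (Fintype.card F)) {T : Type} [Group T]
    (e : T ≃* PSp 2 F) : NoFac T :=
  ((noProd_psp ho).congr e).noFac

theorem noFac_sz {T : Type} [Group T] (h : Cfsg.Lie.IsoSuzuki T) : NoFac T :=
  noFac_of_cGapMax (Cfsg.Agent.H947.Cyc.cGapMax_sz h)

theorem noFac_ree {T : Type} [Group T] (h : Cfsg.Lie.IsoRee T) : NoFac T :=
  noFac_of_cGapMax (Cfsg.Agent.H947.Cyc.cGapMax_ree h)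

/-- the groups of small rank, by name -/
theorem noFac_low {g : Grp} {T : Type} [Group T] (h : Real g T)
    (hg : (∃ n q, n ≤ 3 ∧ g = .psl n q) ∨ (∃ n q, n ≤ 3 ∧ g = .psu n q) ∨ (∃ q, g = .sz q) ∨ (∃ q, g = .ree q) ∨
      ∃ q, Odd q ∧ g = .psp 2 q) : NoFac T := by
  rcases hg with ⟨n, q, hn, rfl⟩ | ⟨n, q, hn, rfl⟩ | ⟨q, rfl⟩ | ⟨q, rfl⟩ | ⟨q, hq, rfl⟩
  · obtain ⟨F, iF, iF', -, ⟨e⟩⟩ := h
    exact noFac_psl hn e
  · obtain ⟨F, iF, iF', -, ⟨e⟩⟩ := h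
    exact noFac_psu hn e
  · obtain ⟨F, iF, iF', m, hm, hF, hq, he⟩ := h
    exact noFac_sz ⟨F, iF, iF', m, hm, hF.trans hq, he⟩
  · obtain ⟨F, iF, iF', m, hm, hF, hq, he⟩ := h
    exact noFac_ree ⟨F, iF, iF', m, hm, hF.trans hq, he⟩
  · obtain ⟨F, iF, iF', hF, ⟨e⟩⟩ := h
    exact noFac_psp (by rw [hF]; exact hq) e

end Cfsg.Agent.H462.NoProd
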