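import Cfsg.Agent.H462.NoProd.Rep
import Cfsg.Agent.S0205

/-!
# Simple groups have no nontrivial representations of degree two in odd characteristic (for S3679) (helper462)

* `perfect_of_simple`, `center_of_simple`, `exists_inv` : simple non-abelian groups are perfect, have trivial centre and contain involutions;
* `low_two` : `Low F 2 S`, `S` simple non-abelian, `2 ≠ 0` in `F`.
-/

set_option autoImplicit false

namespace Cfsg.Agent.H462.NoProd

open Module
open scoped commutatorElement

universe u

theorem perfect_of_simple {S : Type*} [Group S] (hS : IsSimpleGroup S) (hna : ¬ IsMulCommutative S) :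
    commutator S = ⊤ := by
  rcases hS.eq_bot_or_eq_top_of_normal (commutator S) inferInstance with h | h
  · exfalso
    apply hna
    refine ⟨⟨fun a b => ?_⟩⟩
    have h1 : ⁅a, b⁆ ∈ commutator S :=
      Subgroup.commutator_mem_commutator (Subgroup.mem_top a) (Subgroup.mem_top b)
    rw [h, Subgroup.mem_bot, commutatorElement_eq_one_iff_mul_comm] at h1
    exact h1
  · exact h

theorem center_of_simple {S : Type*} [Group S] (hS : IsSimpleGroup S) (hna : ¬ IsMulCommutative S) :
    Subgroup.center S = ⊥ := by
  rcases hS.eq_bot_or_eq_top_of_normal (Subgroup.center S) inferInstance with h | h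
  · exact h
  · exfalso
    apply hna
    refine ⟨⟨fun a b => ?_⟩⟩
    have h1 : b ∈ Subgroup.center S := by rw [h]; trivial
    exact Subgroup.mem_center_iff.1 h1 a

theorem exists_inv {S : Type*} [Group S] [Finite S] (hS : IsSimpleGroup S) (hna : ¬ IsMulCommutative S) :
    ∃ t : S, t ≠ 1 ∧ t * t = 1 := by
  have h1 : ¬ Odd (Nat.card S) := by
    intro ho
    have h2 : Group.IsSolvable S := Cfsg.Agent.S0205.result ho
    have h3 := perfect_of_simple hS hna
    have hnt : Nontrivial S := hS.toNontrivial
    have h4 : commutator S < ⊤ := Group.IsSolvable.commutator_lt_top_of_nontrivial S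
    rw [h3] at h4
    exact lt_irrefl _ h4
  rw [Nat.not_odd_iff_even] at h1
  have : Fact (Nat.Prime 2) := ⟨Nat.prime_two⟩
  obtain ⟨t, ht⟩ := exists_prime_orderOf_dvd_card' (G := S) 2 h1.two_dvd
  refine ⟨t, ?_, ?_⟩
  · rintro rfl
    rw [orderOf_one] at ht
    exact absurd ht (by norm_num)
  · rw [← pow_two, ← ht, pow_orderOf_eq_one]

/-- involutions of determinant one in degree two are central -/
theorem scalar_of_sq {F : Type*} [Field F] (h2 : (2 : F) ≠ 0) {A : Matrix (Fin 2) (Fin 2) F} (hA : A * A = 1)
    (hd : A.det = 1) : A = A 0 0 • (1 : Matrix (Fin 2) (Fin 2) F) := by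
  have h1 : A * A.adjugate = 1 := by rw [Matrix.mul_adjugate, hd, one_smul]
  have h3 : A.adjugate = A := by
    calc A.adjugate = (A * A) * A.adjugate := by rw [hA, one_mul]
      _ = A := by rw [mul_assoc, h1, mul_one]
  rw [Matrix.adjugate_fin_two] at h3
  have e00 := congrFun (congrFun h3 0) 0
  have e01 := congrFun (congrFun h3 0) 1
  have e10 := congrFun (congrFun h3 1) 0
  simp at e00 e01 e10
  have hz : ∀ x : F, -x = x → x = 0 := by
    intro x hx
    have h4 : (2 : F) * x = 0 := by
      rw [two_mul]
      nth_rw 1 [← hx]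
      exact neg_add_cancel x
    exact (mul_eq_zero.1 h4).resolve_left h2
  ext i j
  fin_cases i <;> fin_cases j
  · simp
  · simpa using hz _ e01
  · simpa using hz _ e10
  · simpa using e00

/-- **Degree two.** -/
theorem low_two {F : Type u} [Field F] (h2 : (2 : F) ≠ 0) {S : Type*} [Group S] [Finite S] (hS : IsSimpleGroup S)
    (hna : ¬ IsMulCommutative S) : Low F 2 S := by
  intro W _ _ _ hW ρ g
  have hp := perfect_of_simple hS hna
  by_cases h1 : finrank F W ≤ 1
  · exact low_one hp W h1 ρ g
  have hW2 : finrank F W = 2 := by omega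
  obtain ⟨t, ht1, ht⟩ := exists_inv hS hna
  let b : Basis (Fin 2) F W := Module.finBasisOfFinrankEq F W hW2
  let τ : S →* Matrix (Fin 2) (Fin 2) F := (LinearMap.toMatrixAlgEquiv b).toMulEquiv.toMonoidHom.comp ρ
  have hτ : ∀ s, τ s = LinearMap.toMatrixAlgEquiv b (ρ s) := fun s => rfl
  have hdet : ∀ s, (τ s).det = 1 := fun s =>
    triv_of_comm hp (Matrix.detMonoidHom.comp τ) (fun a b => mul_comm _ _) s
  have h3 : τ t * τ t = 1 := by rw [← map_mul, ht, map_one]
  have h4 := scalar_of_sq h2 h3 (hdet t)
  have hcomm : ∀ s, ρ (t * s) = ρ (s * t) := by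
    intro s
    apply (LinearMap.toMatrixAlgEquiv b).injective
    rw [← hτ, ← hτ, map_mul, map_mul, h4, smul_mul_assoc, mul_smul_comm, one_mul, mul_one]
  rcases hS.eq_bot_or_eq_top_of_normal ρ.ker inferInstance with h | h
  · exfalso
    have h5 : t ∈ Subgroup.center S := by
      rw [Subgroup.mem_center_iff]
      intro s
      have h6 : s * t * (t * s)⁻¹ ∈ ρ.ker := by
        rw [MonoidHom.mem_ker, map_mul, ← hcomm, ← map_mul, mul_inv_cancel, map_one]
      rw [h, Subgroup.mem_bot, mul_inv_eq_one] at h6
      exact h6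
    rw [center_of_simple hS hna] at h5
    exact ht1 h5
  · have h5 : g ∈ ρ.ker := by rw [h]; trivial
    exact h5

end Cfsg.Agent.H462.NoProd
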