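import Cfsg.Agent.H462.NoProd.Lin
import Cfsg.Agent.ClassicalGeometry.SympInvolutions
import Cfsg.Agent.S0270

/-!
# `PSp₄(q)`, `q` odd, has no subgroups `S × S` (for S3679) (helper462)

`PSp₄(q)` acts on the skew matrices modulo the form, a space of dimension 5.
-/

set_option autoImplicit false

namespace Cfsg.Agent.H462.NoProd

open Module Subgroup Matrix

section

variable (F : Type) [Field F]

/-- the algebraic closure -/
local notation "K" => AlgebraicClosure F

/-- matrices over the algebraic closure -/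
abbrev MM : Type := Matrix (Fin 2 ⊕ Fin 2) (Fin 2 ⊕ Fin 2) (AlgebraicClosure F)

/-- coefficients in the algebraic closure -/
noncomputable def up (g : Matrix (Fin 2 ⊕ Fin 2) (Fin 2 ⊕ Fin 2) F) : MM F :=
  (algebraMap F (AlgebraicClosure F)).mapMatrix g

theorem up_mul (g h : Matrix (Fin 2 ⊕ Fin 2) (Fin 2 ⊕ Fin 2) F) : up F (g * h) = up F g * up F h :=
  map_mul _ _ _

theorem up_one : up F 1 = 1 := map_one _

theorem up_neg (g : Matrix (Fin 2 ⊕ Fin 2) (Fin 2 ⊕ Fin 2) F) : up F (-g) = -up F g := map_neg _ _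

theorem up_transpose (g : Matrix (Fin 2 ⊕ Fin 2) (Fin 2 ⊕ Fin 2) F) : (up F g)ᵀ = up F gᵀ := rfl

/-- `A ↦ g A gᵀ` -/
noncomputable def act : symplecticGroup (Fin 2) F →* Module.End (AlgebraicClosure F) (MM F) where
  toFun g :=
    { toFun := fun A => up F g * A * (up F g)ᵀ
      map_add' := fun A B => by rw [mul_add, add_mul]
      map_smul' := fun c A => by rw [RingHom.id_apply, mul_smul_comm, smul_mul_assoc] }
  map_one' := by
    apply LinearMap.ext
    intro A
    change up F 1 * A * (up F 1)ᵀ = A
    rw [up_one, transpose_one, one_mul, mul_one]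
  map_mul' g h := by
    apply LinearMap.ext
    intro A
    change up F (g * h) * A * (up F (g * h))ᵀ = up F g * (up F h * A * (up F h)ᵀ) * (up F g)ᵀ
    rw [up_mul, transpose_mul]
    simp only [mul_assoc]

theorem act_apply (g : symplecticGroup (Fin 2) F) (A : MM F) : act F g A = up F g * A * (up F g)ᵀ := rfl

/-- the action of the projective group -/
noncomputable def pact : PSp 2 F →* Module.End (AlgebraicClosure F) (MM F) :=
  QuotientGroup.lift _ (act F) fun z hz => by
    apply LinearMap.ext
    intro A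
    rw [act_apply]
    change _ = A
    rcases Cfsg.Agent.ClassicalGeometry.SympInvolutions.center_eq hz with h | h
    · rw [h, up_one, transpose_one, one_mul, mul_one]
    · rw [h, up_neg, up_one, transpose_neg, transpose_one, neg_mul, one_mul, neg_mul_neg,
        mul_one]

theorem pact_mk (g : symplecticGroup (Fin 2) F) : pact F (QuotientGroup.mk g) = act F g := rfl

/-- skew matrices -/
def skew : Submodule (AlgebraicClosure F) (MM F) where
  carrier := {A | Aᵀ = -A}
  add_mem' := fun {A B} hA hB => by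
    change (A + B)ᵀ = -(A + B)
    rw [transpose_add, show Aᵀ = -A from hA, show Bᵀ = -B from hB, neg_add]
  zero_mem' := by
    change (0 : MM F)ᵀ = -0
    rw [transpose_zero, neg_zero]
  smul_mem' := fun c A hA => by
    change (c • A)ᵀ = -(c • A)
    rw [transpose_smul, show Aᵀ = -A from hA, smul_neg]

theorem mem_skew {A : MM F} : A ∈ skew F ↔ Aᵀ = -A := Iff.rfl

theorem skew_inv (x : PSp 2 F) (A : MM F) (hA : A ∈ skew F) : pact F x A ∈ skew F := by
  obtain ⟨g, rfl⟩ := QuotientGroup.mk_surjective x
  rw [mem_skew] at hA ⊢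
  rw [pact_mk, act_apply, transpose_mul, transpose_mul, transpose_transpose, hA]
  simp only [mul_assoc, neg_mul, mul_neg]

theorem J_skew : up F (J (Fin 2) F) ∈ skew F := by
  rw [mem_skew, up_transpose, J_transpose, up_neg]

theorem J_fix (x : PSp 2 F) : pact F x (up F (J (Fin 2) F)) = up F (J (Fin 2) F) := by
  obtain ⟨g, rfl⟩ := QuotientGroup.mk_surjective x
  rw [pact_mk, act_apply, up_transpose, ← up_mul, ← up_mul]
  congr 1
  exact (SymplecticGroup.mem_iff).1 g.2

theorem J_ne : up F (J (Fin 2) F) ≠ 0 := by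
  intro h
  have h1 := congrFun (congrFun h (Sum.inr 0)) (Sum.inl 0)
  have h2 : up F (J (Fin 2) F) (Sum.inr 0) (Sum.inl 0) = 1 := by
    simp [up, Matrix.J]
  rw [h2] at h1
  exact one_ne_zero h1

theorem finrank_skew (h2 : (2 : F) ≠ 0) : finrank (AlgebraicClosure F) (skew F) ≤ 6 := by
  have h2' : (2 : AlgebraicClosure F) ≠ 0 := by
    intro h
    apply h2
    apply (algebraMap F (AlgebraicClosure F)).injective
    rw [map_zero, ← h, map_ofNat]
  let f : skew F →ₗ[AlgebraicClosure F] (Fin 6 → AlgebraicClosure F) :=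
    { toFun := fun A => ![(A : MM F) (Sum.inl 0) (Sum.inl 1), (A : MM F) (Sum.inr 0) (Sum.inr 1),
        (A : MM F) (Sum.inl 0) (Sum.inr 0), (A : MM F) (Sum.inl 0) (Sum.inr 1), (A : MM F) (Sum.inl 1) (Sum.inr 0),
        (A : MM F) (Sum.inl 1) (Sum.inr 1)]
      map_add' := fun A B => by
        ext i
        fin_cases i <;> rfl
      map_smul' := fun c A => by
        ext i
        fin_cases i <;> rfl }
  have hf : Function.Injective f := by
    rw [injective_iff_map_eq_zero]
    rintro ⟨A, hA⟩ hfA
    have hA' : ∀ i j, A j i = - A i j := fun i j => congrFun (congrFun hA i) j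
    have e0 : A (Sum.inl 0) (Sum.inl 1) = 0 := congrFun hfA 0
    have e1 : A (Sum.inr 0) (Sum.inr 1) = 0 := congrFun hfA 1
    have e2 : A (Sum.inl 0) (Sum.inr 0) = 0 := congrFun hfA 2
    have e3 : A (Sum.inl 0) (Sum.inr 1) = 0 := congrFun hfA 3
    have e4 : A (Sum.inl 1) (Sum.inr 0) = 0 := congrFun hfA 4
    have e5 : A (Sum.inl 1) (Sum.inr 1) = 0 := congrFun hfA 5
    have hd : ∀ i, A i i = 0 := by
      intro i
      have h3 := hA' i i
      have h4 : (2 : AlgebraicClosure F) * A i i = 0 := by
        rw [two_mul]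
        nth_rw 1 [h3]
        exact neg_add_cancel _
      exact (mul_eq_zero.1 h4).resolve_left h2'
    have hz : ∀ i j, A i j = 0 → A j i = 0 := fun i j h => by rw [hA' i j, h, neg_zero]
    apply Subtype.ext
    change A = 0
    ext i j
    rcases i with i | i <;> rcases j with j | j <;> fin_cases i <;> fin_cases j
    · exact hd _
    · exact e0
    · exact hz _ _ e0
    · exact hd _
    · exact e2
    · exact e3
    · exact e4
    · exact e5
    · exact hz _ _ e2
    · exact hz _ _ e4
    · exact hz _ _ e3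
    · exact hz _ _ e5
    · exact hd _
    · exact e1
    · exact hz _ _ e1
    · exact hd _
  have h3 := LinearMap.finrank_le_finrank_of_injective hf
  rwa [Module.finrank_fin_fun] at h3

/-- the representation on the skew matrices -/
noncomputable def rsk : PSp 2 F →* Module.End (AlgebraicClosure F) (skew F) := res (pact F) (skew F) (skew_inv F)

theorem rsk_coe (x : PSp 2 F) (A : skew F) : ((rsk F x A : skew F) : MM F) = pact F x A := rfl

theorem rsk_J : (rsk F (QuotientGroup.mk (SymplecticGroup.symJ (Fin 2) F))) ≠ 1 := by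
  intro h
  let a : Matrix (Fin 2) (Fin 2) (AlgebraicClosure F) := !![0, 1; -1, 0]
  let A : MM F := fromBlocks a 0 0 0
  have haT : aᵀ = -a := by
    ext i j
    fin_cases i <;> fin_cases j <;> simp [a]
  have hA : A ∈ skew F := by
    rw [mem_skew]
    simp only [A]
    rw [fromBlocks_transpose, fromBlocks_neg, haT]
    simp
  have h1 : pact F (QuotientGroup.mk (SymplecticGroup.symJ (Fin 2) F)) A = A :=
    congrArg (fun f : Module.End (AlgebraicClosure F) (skew F) => ((f ⟨A, hA⟩ : skew F) : MM F)) h
  rw [pact_mk, act_apply] at h1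
  have h2 : up F (SymplecticGroup.symJ (Fin 2) F : symplecticGroup (Fin 2) F) = fromBlocks 0 (-1) 1 0 := by
    change up F (J (Fin 2) F) = _
    rw [up, Matrix.J]
    ext i j
    rcases i with i | i <;> rcases j with j | j <;>
      simp [Matrix.one_apply, apply_ite]
  rw [h2] at h1
  simp only [A] at h1
  rw [fromBlocks_transpose, fromBlocks_multiply, fromBlocks_multiply] at h1
  have h3 := congrFun (congrFun h1 (Sum.inl 0)) (Sum.inl 1)
  simp [a] at h3

end

/-- **`PSp₄(q)`, `q` odd.** -/
theorem noProd_psp {F : Type} [Field F] [Fintype F] (ho : Odd (Fintype.card F)) : NoProd (PSp 2 F) := by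
  intro S _ _ hS hna φ hφ
  have hnt : Nontrivial S := hS.toNontrivial
  have hp := perfect_of_simple hS hna
  have h2 : (2 : F) ≠ 0 := by
    intro h
    have h3 : ringChar F ∣ 2 := (ringChar.spec F 2).1 (by exact_mod_cast h)
    have h4 : (ringChar F).Prime := CharP.char_is_prime F (ringChar F)
    have h5 : ringChar F = 2 := (Nat.prime_dvd_prime_iff_eq h4 Nat.prime_two).1 h3
    have h6 : CharP F 2 := by rw [← h5]; infer_instance
    obtain ⟨n, -, hn⟩ := FiniteField.card F 2
    rw [hn] at ho
    exact absurd ho (by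
      rw [Nat.not_odd_iff_even]
      exact (Nat.even_pow.2 ⟨even_two, n.ne_zero⟩))
  have h2' : (2 : AlgebraicClosure F) ≠ 0 := by
    intro h
    apply h2
    apply (algebraMap F (AlgebraicClosure F)).injective
    rw [map_zero, ← h, map_ofNat]
  have h3 : 3 ≤ Fintype.card F := by
    have h4 : 1 < Fintype.card F := Fintype.one_lt_card
    obtain ⟨c, hc⟩ := ho
    omega
  have hsimple : IsSimpleGroup (PSp 2 F) := Cfsg.Agent.S0270.result 2 le_rfl fun _ => h3
  -- the representation on the skew matrices is faithful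
  have hker : (rsk F).ker = ⊥ := by
    rcases hsimple.eq_bot_or_eq_top_of_normal (rsk F).ker inferInstance with h | h
    · exact h
    · exfalso
      apply rsk_J F
      have h4 : (QuotientGroup.mk (SymplecticGroup.symJ (Fin 2) F) : PSp 2 F) ∈ (rsk F).ker := by rw [h]; trivial
      exact h4
  let j : skew F := ⟨up F (J (Fin 2) F), J_skew F⟩
  have hj : j ≠ 0 := fun h => J_ne F (congrArg Subtype.val h)
  let U : Submodule (AlgebraicClosure F) (skew F) := Submodule.span _ {j}
  have hUfix : ∀ x : PSp 2 F, ∀ u ∈ U, rsk F x u = u := by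
    intro x u hu
    obtain ⟨c, rfl⟩ := Submodule.mem_span_singleton.1 hu
    rw [map_smul]
    congr 1
    exact Subtype.ext (J_fix F x)
  have hUinv : ∀ x : PSp 2 F, ∀ u ∈ U, rsk F x u ∈ U := fun x u hu => by rw [hUfix x u hu]; exact hu
  have hfr : finrank (AlgebraicClosure F) (skew F ⧸ U) ≤ 5 := by
    have h4 := U.finrank_quotient_add_finrank
    have h5 : finrank (AlgebraicClosure F) U = 1 := finrank_span_singleton hj
    have h6 := finrank_skew F h2
    omega
  have key : ∀ ψ : S →* PSp 2 F, Function.Injective ψ → ¬ ∀ s, quo (rsk F) U hUinv (ψ s) = 1 := by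
    intro ψ hψ h
    obtain ⟨s, hs⟩ := exists_ne (1 : S)
    apply hs
    apply hψ
    rw [map_one]
    have h4 : ψ s ∈ (rsk F).ker := by
      refine triv_of_two hp ((rsk F).comp ψ) U (fun g u hu => hUfix _ u hu) (fun g w => ?_) s
      have h5 := congrArg (fun f : Module.End (AlgebraicClosure F) (skew F ⧸ U) => f (U.mkQ w)) (h g)
      have h6 : U.mkQ (rsk F (ψ g) w) = U.mkQ w := h5
      rw [← Submodule.ker_mkQ U, LinearMap.mem_ker, map_sub]
      change U.mkQ (rsk F (ψ g) w) - U.mkQ w = 0
      rw [h6, sub_self]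
    rw [hker, mem_bot] at h4
    exact h4
  rcases pair hp hp (low_two h2' hS hna) (low_two h2' hS hna) _ (skew F ⧸ U) rfl (by omega)
    ((quo (rsk F) U hUinv).comp (φ.comp (MonoidHom.inl S S))) ((quo (rsk F) U hUinv).comp (φ.comp (MonoidHom.inr S S)))
    (fun a b => by
      change quo (rsk F) U hUinv (φ (a, 1)) * quo (rsk F) U hUinv (φ (1, b)) =
        quo (rsk F) U hUinv (φ (1, b)) * quo (rsk F) U hUinv (φ (a, 1))
      rw [← map_mul, ← map_mul, ← map_mul, ← map_mul, Prod.mk_mul_mk, Prod.mk_mul_mk, mul_one, one_mul, mul_one, one_mul])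
    with h | h
  · exact key (φ.comp (MonoidHom.inl S S)) (fun a b hab => congrArg Prod.fst (hφ hab)) h
  · exact key (φ.comp (MonoidHom.inr S S)) (fun a b hab => congrArg Prod.snd (hφ hab)) h

end Cfsg.Agent.H462.NoProd
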